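import Groth.Prelude.Def_Curv2
import Groth.Agent.Hensel.HenselizationNormal
import Mathlib

/-!
Comparing points of base changes of a scheme to two field extensions: there is a third one
dominating both, finitely generated over the first when the second is.
-/

set_option autoImplicit false
set_option backward.isDefEq.respectTransparency false
universe u

open CategoryTheory CategoryTheory.Limits AlgebraicGeometry
open scoped TensorProduct

namespace Groth.Agent.BCPoint

/-- A morphism into the spectrum of a field is flat. -/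
theorem flat_to_field {X : Scheme.{u}} (K : Type u) [Field K] (f : X ⟶ Spec (CommRingCat.of K)) : Flat f := by
  haveI : Subsingleton ↥(Spec (CommRingCat.of K)) := inferInstanceAs (Subsingleton (PrimeSpectrum K))
  infer_instance

/-- A point over `(x', y)` in a base change to a field extension `L` of `k'`, together with the
flat morphism to `X_K`. -/
theorem exists_common (k : Type u) [Field k] (X : Scheme.{u}) [X.Over (Spec (CommRingCat.of k))]
    (k' : Type u) [Field k'] [Algebra k k'] (K : Type u) [Field K] [Algebra k K]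
    (x' : ↥(Curv2.bc k X k')) (y : ↥(Curv2.bc k X K))
    (h : Curv2.bcFst k X K y = Curv2.bcFst k X k' x') :
    ∃ (L : Type u) (_ : Field L) (_ : Algebra k' L),
      (Algebra.EssFiniteType k K → Algebra.EssFiniteType k' L) ∧
      letI : (Curv2.bc k X k').Over (Spec (CommRingCat.of k')) := ⟨Curv2.bcSnd k X k'⟩
      ∃ (x'' : ↥(Curv2.bc k' (Curv2.bc k X k') L))
        (g : Curv2.bc k' (Curv2.bc k X k') L ⟶ Curv2.bc k X K),
        Curv2.bcFst k' (Curv2.bc k X k') L x'' = x' ∧ g x'' = y ∧ (g.stalkMap x'').hom.Flat := by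
  let πX := X ↘ Spec (CommRingCat.of k)
  let ak : Spec (CommRingCat.of k') ⟶ Spec (CommRingCat.of k) := Spec.map (CommRingCat.ofHom (algebraMap k k'))
  let aK : Spec (CommRingCat.of K) ⟶ Spec (CommRingCat.of k) := Spec.map (CommRingCat.ofHom (algebraMap k K))
  obtain ⟨z, hz1, hz2⟩ := Scheme.Pullback.exists_preimage_pullback
    (f := Curv2.bcFst k X k') (g := Curv2.bcFst k X K) x' y h.symm
  have hw : (pullback.fst (Curv2.bcFst k X k') (Curv2.bcFst k X K) ≫ Curv2.bcSnd k X k') ≫ ak =
      (pullback.snd (Curv2.bcFst k X k') (Curv2.bcFst k X K) ≫ Curv2.bcSnd k X K) ≫ aK := by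
    have e1 : Curv2.bcFst k X k' ≫ πX = Curv2.bcSnd k X k' ≫ ak := pullback.condition
    have e2 : Curv2.bcFst k X K ≫ πX = Curv2.bcSnd k X K ≫ aK := pullback.condition
    rw [Category.assoc, Category.assoc, ← e1, ← e2, pullback.condition_assoc]
  let q := pullback.lift _ _ hw ≫ (pullbackSpecIso k k' K).hom
  let P : PrimeSpectrum (k' ⊗[k] K) := q z
  let r : Spec (CommRingCat.of P.asIdeal.ResidueField) ⟶ Spec (CommRingCat.of (k' ⊗[k] K)) :=
    Spec.map (CommRingCat.ofHom (algebraMap (k' ⊗[k] K) P.asIdeal.ResidueField))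
  obtain ⟨t, ht1, -⟩ := Scheme.Pullback.exists_preimage_pullback (f := q) (g := r) z
    (IsLocalRing.closedPoint P.asIdeal.ResidueField) (by
      show P = _
      refine PrimeSpectrum.ext ?_
      show P.asIdeal = Ideal.comap (algebraMap (k' ⊗[k] K) P.asIdeal.ResidueField)
        (IsLocalRing.maximalIdeal P.asIdeal.ResidueField)
      rw [IsLocalRing.maximalIdeal_eq_bot]
      exact P.asIdeal.ker_algebraMap_residueField.symm)
  letI : Algebra k' P.asIdeal.ResidueField :=
    ((algebraMap (k' ⊗[k] K) P.asIdeal.ResidueField).comp Algebra.TensorProduct.includeLeftRingHom).toAlgebra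
  haveI : IsScalarTower k' (k' ⊗[k] K) P.asIdeal.ResidueField := IsScalarTower.of_algebraMap_eq fun _ => rfl
  refine ⟨P.asIdeal.ResidueField, inferInstance, inferInstance, fun hK => ?_, ?_⟩
  · exact Algebra.EssFiniteType.comp k' (k' ⊗[k] K) P.asIdeal.ResidueField
  letI : (Curv2.bc k X k').Over (Spec (CommRingCat.of k')) := ⟨Curv2.bcSnd k X k'⟩
  let bk : Spec (CommRingCat.of P.asIdeal.ResidueField) ⟶ Spec (CommRingCat.of k') :=
    Spec.map (CommRingCat.ofHom (algebraMap k' P.asIdeal.ResidueField))
  let bK : Spec (CommRingCat.of P.asIdeal.ResidueField) ⟶ Spec (CommRingCat.of K) :=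
    Spec.map (CommRingCat.ofHom ((algebraMap (k' ⊗[k] K) P.asIdeal.ResidueField).comp
      Algebra.TensorProduct.includeRight.toRingHom))
  have rk : r ≫ (pullbackSpecIso k k' K).inv ≫ pullback.fst _ _ = bk := by
    rw [pullbackSpecIso_inv_fst, ← Spec.map_comp]; rfl
  have rK : r ≫ (pullbackSpecIso k k' K).inv ≫ pullback.snd _ _ = bK := by
    rw [pullbackSpecIso_inv_snd, ← Spec.map_comp]; rfl
  have qk : q ≫ (pullbackSpecIso k k' K).inv ≫ pullback.fst _ _ =
      pullback.fst (Curv2.bcFst k X k') (Curv2.bcFst k X K) ≫ Curv2.bcSnd k X k' := by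
    simp only [q, Category.assoc, Iso.hom_inv_id_assoc]; exact pullback.lift_fst _ _ _
  have qK : q ≫ (pullbackSpecIso k k' K).inv ≫ pullback.snd _ _ =
      pullback.snd (Curv2.bcFst k X k') (Curv2.bcFst k X K) ≫ Curv2.bcSnd k X K := by
    simp only [q, Category.assoc, Iso.hom_inv_id_assoc]; exact pullback.lift_snd _ _ _
  have hbb : bk ≫ ak = bK ≫ aK := by
    rw [← rk, ← rK]; simp only [Category.assoc]
    exact congrArg (fun e => r ≫ (pullbackSpecIso k k' K).inv ≫ e) pullback.condition
  have w1 : Curv2.bcFst k' (Curv2.bc k X k') P.asIdeal.ResidueField ≫ Curv2.bcSnd k X k' =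
      Curv2.bcSnd k' (Curv2.bc k X k') P.asIdeal.ResidueField ≫ bk := pullback.condition
  have wg : (Curv2.bcFst k' (Curv2.bc k X k') P.asIdeal.ResidueField ≫ Curv2.bcFst k X k') ≫ πX =
      (Curv2.bcSnd k' (Curv2.bc k X k') P.asIdeal.ResidueField ≫ bK) ≫ aK := by
    rw [Category.assoc, show Curv2.bcFst k X k' ≫ πX = Curv2.bcSnd k X k' ≫ ak from pullback.condition,
      ← Category.assoc, w1, Category.assoc, hbb, Category.assoc]
  let g : Curv2.bc k' (Curv2.bc k X k') P.asIdeal.ResidueField ⟶ Curv2.bc k X K := pullback.lift _ _ wg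
  let m : pullback q r ⟶ Curv2.bc k' (Curv2.bc k X k') P.asIdeal.ResidueField :=
    pullback.lift (pullback.fst q r ≫ pullback.fst _ _) (pullback.snd q r) (by
      show (pullback.fst q r ≫ pullback.fst _ _) ≫ Curv2.bcSnd k X k' = pullback.snd q r ≫ bk
      rw [Category.assoc, ← qk, pullback.condition_assoc, rk])
  have hm : m ≫ g = pullback.fst q r ≫ pullback.snd _ _ := by
    apply pullback.hom_ext
    · rw [Category.assoc, show g ≫ pullback.fst _ _ = _ from pullback.lift_fst _ _ _, ← Category.assoc,
        show m ≫ Curv2.bcFst k' (Curv2.bc k X k') _ = _ from pullback.lift_fst _ _ _]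
      simp only [Category.assoc]
      exact congrArg (fun e => pullback.fst q r ≫ e) pullback.condition
    · rw [Category.assoc, show g ≫ pullback.snd _ _ = _ from pullback.lift_snd _ _ _, ← Category.assoc,
        show m ≫ Curv2.bcSnd k' (Curv2.bc k X k') _ = _ from pullback.lift_snd _ _ _, ← rK,
        ← pullback.condition_assoc, qK]
      simp only [Category.assoc]
  have hg : IsPullback g (Curv2.bcSnd k' (Curv2.bc k X k') P.asIdeal.ResidueField) (Curv2.bcSnd k X K) bK := by
    have a := (IsPullback.of_hasPullback (Curv2.bcSnd k X k') bk).paste_horiz (IsPullback.of_hasPullback πX ak)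
    rw [hbb] at a
    refine IsPullback.of_right ?_ (pullback.lift_snd _ _ _) (IsPullback.of_hasPullback πX aK)
    rw [show g ≫ pullback.fst _ _ = _ from pullback.lift_fst _ _ _]
    exact a
  haveI : Flat bK := flat_to_field K bK
  haveI : Flat g := MorphismProperty.of_isPullback hg.flip (inferInstanceAs (Flat bK))
  refine ⟨m t, g, ?_, ?_, Flat.stalkMap g _⟩
  · show Curv2.bcFst k' (Curv2.bc k X k') P.asIdeal.ResidueField (m t) = x'
    rw [← Scheme.Hom.comp_apply,
      show m ≫ Curv2.bcFst k' (Curv2.bc k X k') _ = _ from pullback.lift_fst _ _ _,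
      Scheme.Hom.comp_apply, ht1, hz1]
  · rw [← Scheme.Hom.comp_apply, hm, Scheme.Hom.comp_apply, ht1, hz2]

end Groth.Agent.BCPoint
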