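import Groth.Agent.GeomField.Chart
import Groth.Agent.SyntCM12.CMProps
import Groth.Agent.Triage.CMMor
import Groth.Agent.S2614

/-!
Cohen–Macaulayness of local rings and base change of the ground field.
-/

set_option autoImplicit false
set_option backward.isDefEq.respectTransparency false
set_option backward.isDefEq.respectTransparency.types false
universe u

open CategoryTheory CategoryTheory.Limits AlgebraicGeometry
open scoped TensorProduct

namespace Groth.Agent.BCPoint

/-- The chart statement. -/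
theorem isCM_tensor_iff (k R K : Type u) [Field k] [CommRing R] [Field K] [Algebra k R] [Algebra k K]
    [IsNoetherianRing R] [IsNoetherianRing (R ⊗[k] K)]
    (h : ∀ (P : Ideal R) [P.IsPrime], Algebra.EssFiniteType k K ∨ Algebra.EssFiniteType k P.ResidueField)
    (q : Ideal (R ⊗[k] K)) [q.IsPrime] :
    LocCoh.IsCohenMacaulayLocalRing (Localization.AtPrime q) ↔
      LocCoh.IsCohenMacaulayLocalRing (Localization.AtPrime (q.comap (algebraMap R (R ⊗[k] K)))) := by
  refine SyntCM12.isCM_iff (A := R) (B := R ⊗[k] K) (fun p => ?_) q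
  haveI : IsNoetherianRing (p.asIdeal.Fiber (R ⊗[k] K)) := FlatLoc6.isNoetherianRing_fiber p.asIdeal
  let e : p.asIdeal.ResidueField ⊗[R] (R ⊗[k] K) ≃+* p.asIdeal.ResidueField ⊗[k] K :=
    (Algebra.TensorProduct.cancelBaseChange k R R p.asIdeal.ResidueField K).toRingEquiv
  haveI : IsNoetherianRing (p.asIdeal.ResidueField ⊗[k] K) :=
    isNoetherianRing_of_ringEquiv (p.asIdeal.Fiber (R ⊗[k] K)) e
  haveI := S2614.result k p.asIdeal.ResidueField K (h p.asIdeal).symm
  exact FlatLoc6.isCM_of_ringEquiv e.symm ‹_›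

open GeomField in
/-- The scheme statement, given the Noetherian hypotheses on charts. -/
theorem isCM_stalk_iff (k : Type u) [Field k] (X : Scheme.{u}) [X.Over (Spec (CommRingCat.of k))]
    (K : Type u) [Field K] [Algebra k K]
    (hN : ∀ c : Chart k X, IsNoetherianRing c.R ∧ IsNoetherianRing (c.R ⊗[k] K) ∧
      ∀ (P : Ideal c.R) [P.IsPrime], Algebra.EssFiniteType k K ∨ Algebra.EssFiniteType k P.ResidueField)
    (x' : ↥(Curv2.bc k X K)) :
    LocCoh.IsCohenMacaulayLocalRing ↥(X.presheaf.stalk (Curv2.bcFst k X K x')) ↔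
      LocCoh.IsCohenMacaulayLocalRing ↥((Curv2.bc k X K).presheaf.stalk x') := by
  obtain ⟨c, P, hP⟩ := exists_chart (k := k) (Curv2.bcFst k X K x')
  obtain ⟨Q, rfl⟩ := c.exists_bcEmb_eq K P x' hP.symm
  obtain ⟨hR, hRK, hK⟩ := hN c
  obtain ⟨_, _, _⟩ := c.exists_stalk_algebra P
  let e₁ : (Spec.structureSheaf (c.R ⊗[k] K)).presheaf.stalk Q ≃ₐ[c.R ⊗[k] K]
      Localization.AtPrime (PrimeSpectrum.asIdeal (R := c.R ⊗[k] K) Q) :=
    IsLocalization.algEquiv (PrimeSpectrum.asIdeal (R := c.R ⊗[k] K) Q).primeCompl _ _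
  let e : (Curv2.bc k X K).presheaf.stalk (c.bcEmb K Q) ≃+*
      Localization.AtPrime (PrimeSpectrum.asIdeal (R := c.R ⊗[k] K) Q) :=
    (asIso ((c.bcEmb K).stalkMap Q)).commRingCatIsoToRingEquiv.trans e₁.toRingEquiv
  let e' : X.presheaf.stalk (c.emb P) ≃+* Localization.AtPrime (PrimeSpectrum.asIdeal (R := c.R) P) :=
    (IsLocalization.algEquiv (PrimeSpectrum.asIdeal (R := c.R) P).primeCompl _ _).toRingEquiv
  rw [show Curv2.bcFst k X K (c.bcEmb K Q) = c.emb P from hP.symm, Triage.CMMor.isCM_congr e',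
    Triage.CMMor.isCM_congr e]
  haveI : (PrimeSpectrum.asIdeal (R := c.R ⊗[k] K) Q).IsPrime := Q.2
  have hQP := (c.bcEmb_fst_eq_iff K P Q).1 hP.symm
  have key : ∀ (p : Ideal c.R) [p.IsPrime], p = PrimeSpectrum.asIdeal (R := c.R) P →
      (LocCoh.IsCohenMacaulayLocalRing (Localization.AtPrime p) ↔
        LocCoh.IsCohenMacaulayLocalRing (Localization.AtPrime (PrimeSpectrum.asIdeal (R := c.R) P))) := by
    intro p _ h; subst h; exact Iff.rfl
  rw [← key _ hQP, isCM_tensor_iff k c.R K hK]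

end Groth.Agent.BCPoint
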